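import Groth.Agent.H02CA.SurfStab.Dual
import Groth.Agent.H10Coh.Stab.Mu
import Groth.Agent.H10Coh.Stab.ReflexivePure
import Groth.Agent.H22Alg.KExists
import Groth.Agent.H28Int.Surface
import Groth.Agent.H28Int.Positive
import Groth.Agent.H28Vert.PicVert
import Groth.Agent.H11Ample.Tensor
import Groth.Agent.H11Ample.UnitIso

/-!
# Leading coefficients of Hilbert polynomials on an integral scheme
-/

set_option autoImplicit false
set_option linter.style.haveILetI false
set_option maxHeartbeats 800000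
universe u

open CategoryTheory CategoryTheory.Limits AlgebraicGeometry Opposite TopologicalSpace Polynomial
open Groth.Agent

namespace Groth.Agent.H02CA.SurfStab

open H10Coh.Stab StabCat

variable {k : Type u} [Field k] {Z : Scheme.{u}} [Z.Over (Spec (CommRingCat.of k))]
  [IsProper (Z ↘ Spec (CommRingCat.of k))] {L : Z.Modules}

theorem isReflexive_of_vb [IsLocallyNoetherian Z] {F : Z.Modules} (hF : FlatMod.IsFinLocFree F)
    (hFc : Coh.IsCoh F) : RefHull.IsReflexive F :=
  (H29Ref.isReflexive_iff F hFc).2 fun x => by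
    obtain ⟨_, ⟨b⟩⟩ := H22Alg.KExists.stalk_free hF x
    haveI := Module.Free.of_basis b
    haveI := H29Ref.finite_stalk F hFc.2 x
    exact (inferInstance : Module.IsReflexive (Z.presheaf.stalk x) (F.presheaf.stalk x))

/-- A quotient with small support leaves the high coefficients unchanged. -/
theorem coeff_eq_of_dim (hL : CohB1.IsAmple L) {A B : Z.Modules} (hA : Coh.IsCoh A) (hB : Coh.IsCoh B) (φ : A ⟶ B)
    [Mono φ] {pA pB : ℚ[X]} (hpA : ShStab.IsHilbPoly k Z L A pA) (hpB : ShStab.IsHilbPoly k Z L B pB) {e : ℕ}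
    (hd : topologicalKrullDim (CohB1.support (cokernel φ)) < (e : WithBot ℕ∞)) {n : ℕ} (hn : e ≤ n) :
    pA.coeff n = pB.coeff n := by
  haveI := isLocallyNoetherian_of_proper (Z := Z) k
  have h := H25Euler.coeff_hilbPoly_eq_zero hL (H10Coh.isCoh_cokernel φ hA.1 hB)
    (H25Euler.polyLE_of_mono hL hA hB φ hpA hpB).2 hd hn
  rw [coeff_sub, sub_eq_zero] at h
  exact h.symm

theorem exists_poly (hL : CohB1.IsAmple L) {n : ℕ} (hX : topologicalKrullDim Z = (n : WithBot ℕ∞)) {F : Z.Modules}
    (hF : Coh.IsCoh F) : ∃ P : ℚ[X], ShStab.IsHilbPoly k Z L F P :=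
  H25Euler.exists_hilbPoly hL hF (d := n + 1)
    ((topologicalKrullDim_subspace_le Z _).trans_lt (lt_succ_of_dim_eq hX))

/-- Off the generic point the dimension drops. -/
theorem dim_lt_of_generic_notMem [IsIntegral Z] {n : ℕ} (hX : topologicalKrullDim Z = (n : WithBot ℕ∞))
    {S : Set Z} (hS : IsClosed S) (hη : genericPoint Z ∉ S) : topologicalKrullDim S < (n : WithBot ℕ∞) :=
  H28Int.dim_lt_of_notMem (C := Set.univ) (genericPoint_spec Z)
    ((Topology.IsInducing.subtypeVal.topologicalKrullDim_le).trans hX.le) hS (fun _ _ => trivial) hη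

include k in
/-- A nonzero submodule of an invertible module fills it at the generic point. -/
theorem generic_notMem_cokernel [IsIntegral Z] {n : ℕ} (hX : topologicalKrullDim Z = (n : WithBot ℕ∞))
    {A N : Z.Modules} (hA : Coh.IsCoh A) (hA0 : ¬ IsZero A) (hN : PicF.IsInvertible N) (φ : A ⟶ N) [Mono φ] :
    genericPoint Z ∉ CohB1.support (cokernel φ) := by
  haveI := isLocallyNoetherian_of_proper (Z := Z) k
  have hNc := H11Ample.isCoh_of_isInvertible hN
  have hp : ShStab.IsPure Z N n :=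
    isPure_of_isReflexive k (isReflexive_of_vb (H28Pinch.isFinLocFree_of_isInvertible hN) hNc) hX
  have hdim := (isPure_of_mono hp φ) A (𝟙 A) inferInstance hA hA0
  have hη : genericPoint Z ∈ CohB1.support A := by
    by_contra h
    exact (dim_lt_of_generic_notMem hX (H10Coh.isClosed_support A hA.2) h).ne hdim
  refine (H25Euler.notMem_support_iff _ _).2 ?_
  let Φ := DerSch.stalkFunctor Z (genericPoint Z)
  haveI : Mono (Φ.map φ) := Φ.map_mono φ
  haveI : Epi (Φ.map φ) := by
    rw [ModuleCat.epi_iff_surjective]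
    intro w
    obtain ⟨V, e, hV, he⟩ := H11Ample.exists_gen hN (genericPoint Z)
    have hb := he _ hV
    obtain ⟨a, ha⟩ : ∃ a : Φ.obj A, a ≠ 0 := by
      by_contra h
      push Not at h
      haveI : Subsingleton (Φ.obj A) := subsingleton_of_forall_eq 0 h
      exact (H25Euler.notMem_support_iff A _).2 (ModuleCat.isZero_of_subsingleton _) hη
    obtain ⟨c, hc⟩ := hb.2 ((Φ.map φ).hom a)
    obtain ⟨d, hd⟩ := hb.2 w
    have hc0 : c ≠ 0 := fun h => ha ((ModuleCat.mono_iff_injective _).1 inferInstance (by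
      rw [← hc, h]
      exact (zero_smul _ _).trans (map_zero _).symm))
    obtain ⟨c', hc'⟩ := H29Ref.isField_generic.mul_inv_cancel hc0
    refine ⟨(d * c') • a, ?_⟩
    rw [map_smul, ← hc, ← hd]
    refine (mul_smul (d * c') c (N.presheaf.germ V _ hV e)).symm.trans ?_
    rw [mul_assoc, mul_comm c' c, hc', mul_one]
  exact IsZero.of_iso (isZero_cokernel_of_epi (Φ.map φ)) (PreservesCokernel.iso Φ φ)

theorem alpha_eq_of_mono_inv [IsIntegral Z] (hL : CohB1.IsAmple L) {n : ℕ}
    (hX : topologicalKrullDim Z = (n : WithBot ℕ∞)) {A N : Z.Modules} (hA : Coh.IsCoh A) (hA0 : ¬ IsZero A)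
    (hN : PicF.IsInvertible N) (φ : A ⟶ N) [Mono φ] {pA pN : ℚ[X]} (hpA : ShStab.IsHilbPoly k Z L A pA)
    (hpN : ShStab.IsHilbPoly k Z L N pN) :
    alpha n pA = alpha n pN := by
  have hNc := H11Ample.isCoh_of_isInvertible hN
  rw [alpha, alpha, coeff_eq_of_dim hL hA hNc φ hpA hpN (e := n)
    (dim_lt_of_generic_notMem hX (H10Coh.isClosed_support _ (H10Coh.isCoh_cokernel φ hA.1 hNc).2)
      (generic_notMem_cokernel (k := k) hX hA hA0 hN φ)) le_rfl]

/-- Twisting by a power of the polarisation shifts the Hilbert polynomial. -/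
theorem hilbPoly_shift (hL : PicF.IsInvertible L) {M N : Z.Modules} (n : ℕ)
    (e : M ≅ CohB1.tensorMod N (CohB1.tensorPow L n)) {P : ℚ[X]} (hP : ShStab.IsHilbPoly k Z L N P) :
    ShStab.IsHilbPoly k Z L M (P.comp (Polynomial.X + Polynomial.C (n : ℚ))) := fun m => by
  letI := H28Vert.picLaw (Y := Z)
  rw [eval_comp, eval_add, eval_X, eval_C, ← Nat.cast_add, ← hP (m + n)]
  have hn := H28Vert.isInvertible_tensorPow hL n
  have hm := H28Vert.isInvertible_tensorPow hL m
  obtain ⟨j⟩ : Nonempty (CohB1.tensorMod (CohB1.tensorPow L n) (CohB1.tensorPow L m) ≅ CohB1.tensorPow L (m + n)) := by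
    refine (PicGrp.cls_eq_cls_iff (H11Ample.isInvertible_tensor hn hm) (H28Vert.isInvertible_tensorPow hL (m + n))).1 ?_
    rw [H28Vert.cls_tensorPow hL, pow_add, mul_comm, ← H28Vert.cls_tensorPow hL n, ← H28Vert.cls_tensorPow hL m]
    exact Subtype.ext (PicGrp.cls_mul_cls_val hn hm).symm
  exact congrArg (fun z : ℤ => (z : ℚ)) (H25Euler.euler_congr
    (PicGrp.tensorModIso e (Iso.refl _) ≪≫ H11Ample.tensorAssocIso N _ _ ≪≫
      PicGrp.tensorModIso (Iso.refl N) j))

/-- The coefficients of a shifted quadratic. -/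
theorem coeff_comp_shift {P : ℚ[X]} (hP : ∀ i, 2 < i → P.coeff i = 0) (c : ℚ) :
    (P.comp (Polynomial.X + Polynomial.C c)).coeff 2 = P.coeff 2 ∧
      (P.comp (Polynomial.X + Polynomial.C c)).coeff 1 = P.coeff 1 + 2 * c * P.coeff 2 := by
  have hd : P.natDegree ≤ 2 := natDegree_le_iff_coeff_eq_zero.2 hP
  have hp : P = C (P.coeff 0) + C (P.coeff 1) * X + C (P.coeff 2) * X ^ 2 := by
    conv_lhs => rw [P.as_sum_range_C_mul_X_pow' (n := 3) (by omega)]
    simp [Finset.sum_range_succ]
  have h : P.comp (X + C c) = C (P.coeff 0 + P.coeff 1 * c + P.coeff 2 * c ^ 2) +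
      C (P.coeff 1 + 2 * c * P.coeff 2) * X + C (P.coeff 2) * X ^ 2 := by
    conv_lhs => rw [hp]
    simp only [add_comp, mul_comp, C_comp, X_comp, pow_comp, map_add, map_mul, map_pow, map_ofNat]
    ring
  rw [h]
  simp only [coeff_add, coeff_C_mul, coeff_C, coeff_X, coeff_X_pow]
  norm_num

end Groth.Agent.H02CA.SurfStab
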