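import Groth.Agent.H29Ref.DualStalk
import Groth.Agent.H29Ref.HomSections
import Groth.Agent.H29Ref.Generic

/-!
# The transpose of a morphism and the naturality of biduality
-/

set_option autoImplicit false
set_option linter.style.haveILetI false
universe u

open CategoryTheory CategoryTheory.Limits AlgebraicGeometry Opposite TopologicalSpace
open Groth.Agent Groth.Agent.H29Ref

namespace Groth.Agent.H02CA.SurfStab

variable {X : Scheme.{u}} {A B : X.Modules}

/-- Precomposition on the sections of the dual. -/
noncomputable def dualFun (φ : A ⟶ B) (U : X.Opens) : Γ(RefHull.dual B, U) →+ Γ(RefHull.dual A, U) where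
  toFun f := ⟨fun x => (f.1 x).comp (RefHull.stalkMapₗ φ x.1), fun V i m x => by
    obtain ⟨W, hW, j, n, w⟩ := RefHull.isLocSect_of_mem f V i (φ.app V m) x
    refine ⟨W, hW, j, n, fun y => ?_⟩
    have h := w y
    dsimp only at h
    rw [LinearMap.comp_apply, RefHull.stalkMapₗ_germ φ]
    exact h⟩
  map_zero' := Subtype.ext <| funext fun x => LinearMap.ext fun v => rfl
  map_add' f g := Subtype.ext <| funext fun x => LinearMap.ext fun v => rfl

/-- The transpose of a morphism. -/
noncomputable def dualMap (φ : A ⟶ B) : RefHull.dual B ⟶ RefHull.dual A :=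
  ⟨PresheafOfModules.homMk
    { app := fun U => AddCommGrpCat.ofHom (dualFun φ U.unop)
      naturality := fun {U V} i => by
        ext s
        rfl }
    (fun U r f => Subtype.ext <| funext fun x => LinearMap.ext fun v => rfl)⟩

theorem dualMap_app (φ : A ⟶ B) (U : X.Opens) (f : Γ(RefHull.dual B, U)) (x : U) (v : A.presheaf.stalk x.1) :
    ((dualMap φ).app U f).1 x v = f.1 x (RefHull.stalkMapₗ φ x.1 v) := rfl

/-- Biduality is natural. -/
theorem bidualMap_natural (φ : A ⟶ B) :
    RefHull.bidualMap A ≫ dualMap (dualMap φ) = φ ≫ RefHull.bidualMap B := by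
  refine Scheme.Modules.hom_ext _ _ fun U => ?_
  ext s
  refine Subtype.ext (funext fun x => LinearMap.ext fun θ => ?_)
  obtain ⟨V, hV, g, rfl⟩ := TopCat.Presheaf.exists_germ_eq (RefHull.dual B).presheaf θ
  show RefHull.bidualAt A x.1 (A.presheaf.germ U x.1 x.2 s)
      (RefHull.stalkMapₗ (dualMap φ) x.1 ((RefHull.dual B).presheaf.germ V x.1 hV g)) =
    RefHull.bidualAt B x.1 (B.presheaf.germ U x.1 x.2 (φ.app U s)) ((RefHull.dual B).presheaf.germ V x.1 hV g)
  rw [RefHull.stalkMapₗ_germ, RefHull.bidualAt_apply, RefHull.bidualAt_apply, RefHull.evalStalk_germ,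
    RefHull.evalStalk_germ, dualMap_app, RefHull.stalkMapₗ_germ]

/-- A morphism to a reflexive module extends to the reflexive hull. -/
theorem exists_ext_ddual (φ : A ⟶ B) (hB : RefHull.IsReflexive B) :
    ∃ ψ : RefHull.ddual A ⟶ B, RefHull.bidualMap A ≫ ψ = φ := by
  haveI : IsIso (RefHull.bidualMap B) := hB
  exact ⟨dualMap (dualMap φ) ≫ inv (RefHull.bidualMap B), by
    rw [← Category.assoc, bidualMap_natural, Category.assoc, IsIso.hom_inv_id, Category.comp_id]⟩

end Groth.Agent.H02CA.SurfStab
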