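import Groth.Agent.H02CA.SurfStab.Alpha
import Groth.Agent.H02CA.Quad.Geom
import Groth.Agent.H25Euler.ParSh
import Groth.Agent.H17.PnExt.LocFreeExt
import Groth.Agent.H29RR.MonoHom
import Groth.Agent.H19Grp.RegularSmooth
import Groth.Agent.H28Alg.RegularUFD
import Groth.Agent.H29Ref.DDualInvertible
import Groth.Agent.H29Curve.FieldFibres
import Groth.Agent.H28Pinch.SheafDescent
import Groth.Agent.H28Int.Surface
import Groth.Prelude.Def_ShStab

/-!
# Slope stability of rank two bundles on a surface of Picard rank one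
-/

set_option autoImplicit false
set_option linter.style.haveILetI false
set_option maxHeartbeats 1600000
universe u

open CategoryTheory CategoryTheory.Limits AlgebraicGeometry Opposite TopologicalSpace Polynomial
open Groth.Agent

namespace Groth.Agent.H02CA.SurfStab

attribute [local instance] H28Vert.picLaw

open H10Coh.Stab StabCat BlowPts

variable {k : Type u} [Field k] {X : Scheme.{u}} [X.Over (Spec (CommRingCat.of k))]
  [IsProper (X ↘ Spec (CommRingCat.of k))]

/-- The inclusion of `I ⊗ N` in `N`, with its quotient. -/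
theorem exists_ideal_inclusion (I : X.IdealSheafData) {N : X.Modules} (hN : PicF.IsInvertible N) :
    ∃ φ : CohB1.tensorMod (ClSub.idealMod I) N ⟶ N, Mono φ ∧ CohB1.support (cokernel φ) ⊆ (I.support : Set X) := by
  let c := H10Coh.Tw.commIso (ClSub.idealMod I) N
  have hm : Mono (ParSh.twistMap I N) := by
    haveI : DCoh.HasSheafHom N := H10Coh.SheafHom.hasSheafHom N
    haveI := H17.PnExt.preservesMonomorphisms_tensor (H28Pinch.isFinLocFree_of_isInvertible hN)
    haveI : Mono (ClSub.idealModι I) := inferInstanceAs (Mono (kernel.ι _))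
    have hmap : Mono (((DCoh.tensorBi (X := X)).obj N).map (ClSub.idealModι I)) :=
      Functor.map_mono _ _
    rw [ParSh.twistMap, KoszTw.tensorMap, CategoryTheory.Functor.map_id, NatTrans.id_app]
    erw [Category.id_comp]
    exact @mono_comp _ _ _ _ _ _ hmap _ inferInstance
  refine ⟨c.hom ≫ ParSh.twistMap I N, inferInstance, fun x hx => ?_⟩
  by_contra hI
  refine (H25Euler.notMem_support_iff _ x).2 ?_ hx
  let Φ := DerSch.stalkFunctor X x
  haveI := H25Euler.isIso_stalk_twistMap I N hI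
  haveI : IsIso (Φ.map (c.hom ≫ ParSh.twistMap I N)) := by rw [Φ.map_comp]; infer_instance
  exact IsZero.of_iso (isZero_cokernel_of_epi _) (PreservesCokernel.iso Φ _)

omit [IsProper (X ↘ Spec (CommRingCat.of k))] in
include k in
theorem dim_lt_one_of_finite [LocallyOfFiniteType (X ↘ Spec (CommRingCat.of k))] {S : Set X} (hS : IsClosed S)
    (hf : S.Finite) : topologicalKrullDim S < ((1 : ℕ) : WithBot ℕ∞) := by
  haveI : JacobsonSpace X := LocallyOfFiniteType.jacobsonSpace (X ↘ Spec (CommRingCat.of k))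
  haveI : Finite S := hf
  haveI : T1Space S := ⟨fun y =>
    hS.isClosedEmbedding_subtypeVal.isClosed_iff_image_isClosed.2 (by
      rw [Set.image_singleton]
      exact H29Curve.isClosed_singleton_of_finite_of_isClosed hS hf y.2)⟩
  exact (topologicalKrullDim_zero_of_discreteTopology S).trans_lt (by exact_mod_cast one_pos)

omit [X.Over (Spec (CommRingCat.of k))] [IsProper (X ↘ Spec (CommRingCat.of k))] in
theorem stalkFree_one [IsLocallyNoetherian X] {M : X.Modules} (hM : PicF.IsInvertible M) (x : X) :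
    H8Props.FunDescent.StalkFree M 1 x := by
  obtain ⟨U, hU, ⟨e⟩⟩ := hM x
  exact H8Props.FunDescent.stalkFree_of_isFreeOfRankNear M (H11Ample.isCoh_of_isInvertible hM).1
    ⟨U, hU, ⟨e ≪≫ (coproductUniqueIso fun _ : Fin 1 => Coh.structureModule (U : Scheme.{u})).symm⟩⟩

variable [IsIntegral X] [Smooth (X ↘ Spec (CommRingCat.of k))]

/-- Stability from the vanishing of sections of the twisted ideal. -/
theorem isMuStable (hdim : topologicalKrullDim X = 2) {O : ℤ → X.Modules} (hO : H10Coh.Stab.IsTwistFamily O)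
    (hL : CohB1.IsAmple (O 1)) {d : ℕ} (hd : 2 ≤ d)
    (hgen : ∀ a : ℕ, ∃ s : Γ(O a, ⊤), s ≠ 0)
    (hPic : ∀ M : X.Modules, PicF.IsInvertible M → ∃ n : ℤ, Nonempty (M ≅ O n))
    (Z : X.IdealSheafData) (hZfin : (Z.support : Set X).Finite)
    (hZ : ∀ v : O 1 ⟶ CohB1.tensorMod (ClSub.idealMod Z) (O ((d : ℤ) - 1)), v = 0)
    (S : ShortComplex X.Modules) (hS : S.ShortExact)
    (h₁ : Nonempty (S.X₁ ≅ Coh.structureModule X))
    (h₃ : Nonempty (S.X₃ ≅ CohB1.tensorMod (ClSub.idealMod Z) (O ((d : ℤ) - 1))))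
    (hE : FlatMod.IsFinLocFreeOfRank 2 S.X₂) :
    ShStab.IsMuStable k X (O 1) S.X₂ 2 := by
  haveI := isLocallyNoetherian_of_proper (Z := X) k
  have hX : topologicalKrullDim X = ((2 : ℕ) : WithBot ℕ∞) := by exact_mod_cast hdim
  have hEf : FlatMod.IsFinLocFree S.X₂ := fun y => let ⟨U, hU⟩ := hE y; ⟨U, 2, hU⟩
  have hEc : Coh.IsCoh S.X₂ := H16Derived.KFlat.Stalk.isCoh_of_isFinLocFree hEf
  have hEr := isReflexive_of_vb hEf hEc
  have hEp : ShStab.IsPure X S.X₂ 2 := isPure_of_isReflexive k hEr hX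
  obtain ⟨i₁⟩ := h₁
  obtain ⟨i₃⟩ := h₃
  have hOO := H11Proj.isInvertible_structureModule (X := X)
  have hNi := hO.inv ((d : ℤ) - 1)
  obtain ⟨φI, hφI, hsupp⟩ := exists_ideal_inclusion Z hNi
  haveI := hS.mono_f
  haveI := hS.epi_g
  have hO0 : ¬ IsZero (Coh.structureModule X) := fun h => by
    haveI : Nonempty (⊤ : X.Opens) := ⟨⟨genericPoint X, trivial⟩⟩
    haveI := X.component_nontrivial ⊤
    haveI : Subsingleton Γ(Coh.structureModule X, ⊤) := H28Pinch.subsingleton_sections_of_isZero h ⊤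
    exact not_subsingleton Γ(X, ⊤) ‹_›
  have hE0 : ¬ IsZero S.X₂ := fun h => hO0 ((IsZero.of_mono S.f h).of_iso i₁.symm)
  refine ⟨hEc, hE0, dim_self_of_pure hEp hEc hE0, fun F ι hι hF => ?_, fun F ι hι hF pF pE hpF hpE hα₀ hα => ?_⟩
  · haveI := hι
    by_cases h0 : IsZero F
    · haveI : IsEmpty (IrreducibleCloseds ↥(∅ : Set X)) :=
        ⟨fun C => C.2.nonempty.elim fun x _ => x.2.elim⟩
      rw [support_eq_empty_of_isZero h0, topologicalKrullDim, Order.krullDim_eq_bot, WithBot.bot_add]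
      exact WithBot.bot_ne_coe
    · rw [hEp F ι hι hF h0]
      exact_mod_cast (by norm_num : (2 : ℕ) + 1 ≠ 2)
  haveI := hι
  let L := O 1
  have hLi : PicF.IsInvertible L := hO.inv 1
  obtain ⟨pO, hpO⟩ := exists_poly (k := k) hL hX (H11Ample.isCoh_of_isInvertible hOO)
  obtain ⟨pN, hpN⟩ := exists_poly (k := k) hL hX (H11Ample.isCoh_of_isInvertible hNi)
  have habove : ∀ {M : X.Modules} {P : ℚ[X]}, PicF.IsInvertible M → ShStab.IsHilbPoly k X L M P →
      ∀ i, 2 < i → P.coeff i = 0 := fun {M} {P} hM hP i hi =>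
    coeff_above hL (isPure_of_isReflexive k (isReflexive_of_vb (H28Pinch.isFinLocFree_of_isInvertible hM)
      (H11Ample.isCoh_of_isInvertible hM)) hX) (H11Ample.isCoh_of_isInvertible hM) hP i hi
  have hshift : ∀ (a : ℕ) (M : X.Modules), Nonempty (M ≅ O a) → ∀ p : ℚ[X], ShStab.IsHilbPoly k X L M p →
      alpha 2 p = alpha 2 pO ∧ alpha 1 p = alpha 1 pO + a * alpha 2 pO := by
    rintro a M ⟨e⟩ p hp
    have hla := H28Vert.isInvertible_tensorPow hLi a
    obtain ⟨e'⟩ : Nonempty (O a ≅ CohB1.tensorMod (Coh.structureModule X) (CohB1.tensorPow L a)) := by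
      refine (PicGrp.cls_eq_cls_iff (hO.inv a) (H11Ample.isInvertible_tensor hOO hla)).1 ?_
      rw [cls_family hO a, zpow_natCast, ← H28Vert.cls_tensorPow hLi a, show PicGrp.cls _ (H11Ample.isInvertible_tensor hOO hla) =
        PicGrp.cls _ hOO * PicGrp.cls _ hla from Subtype.ext (PicGrp.cls_mul_cls_val hOO hla).symm,
        (PicGrp.cls_eq_one_iff hOO).2 ⟨Iso.refl _⟩, one_mul]
    have hp' := H25Euler.hilbPoly_unique hp (hilbPoly_shift (k := k) hLi a (e ≪≫ e') hpO)
    obtain ⟨c2, c1⟩ := coeff_comp_shift (habove hOO hpO) (a : ℚ)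
    rw [hp']
    constructor
    · simp only [alpha, c2]
    · simp only [alpha, c1, Nat.factorial]; push_cast; ring
  -- the slope of `E`
  obtain ⟨qO, hqO⟩ : ∃ q, ShStab.IsHilbPoly k X L S.X₁ q := ⟨pO, H25Euler.hilbPoly_congr i₁.symm hpO⟩
  obtain rfl := H25Euler.hilbPoly_unique hqO (H25Euler.hilbPoly_congr i₁.symm hpO)
  have hX1c : Coh.IsCoh S.X₁ := H10Coh.isCoh_of_iso i₁.symm (H11Ample.isCoh_of_isInvertible hOO)
  have hX3 : ShStab.IsHilbPoly k X L S.X₃ (pE - qO) :=
    H25Euler.hilbPoly_congr (IsColimit.coconePointUniqueUpToIso (cokernelIsCokernel S.f) hS.gIsCokernel)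
      (H25Euler.polyLE_of_mono hL hX1c hEc S.f hqO hpE).2
  have hX3c : Coh.IsCoh S.X₃ := H10Coh.isCoh_of_iso
    (IsColimit.coconePointUniqueUpToIso (cokernelIsCokernel S.f) hS.gIsCokernel) (H10Coh.isCoh_cokernel S.f hX1c.1 hEc)
  let ψ : S.X₃ ⟶ O ((d : ℤ) - 1) := i₃.hom ≫ φI
  haveI : Mono ψ := mono_comp _ _
  have hψd : topologicalKrullDim (CohB1.support (cokernel ψ)) < ((1 : ℕ) : WithBot ℕ∞) := by
    refine H25Euler.dim_lt_of_subset ?_ (dim_lt_one_of_finite (k := k) Z.support.isClosed hZfin)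
    exact subset_trans (LeadDev.support_subset_of_iso (cokernelEpiComp i₃.hom φI)) hsupp
  have hNeq := fun n (hn : 1 ≤ n) =>
    coeff_eq_of_dim hL hX3c (H11Ample.isCoh_of_isInvertible hNi) ψ hX3 hpN hψd hn
  obtain ⟨hN2, hN1⟩ := hshift (d - 1) (O ((d : ℤ) - 1))
    ⟨eqToIso (congrArg O (by omega))⟩ pN hpN
  have hE2 : alpha 2 pE = 2 * alpha 2 qO := by
    have := hNeq 2 (by norm_num)
    rw [coeff_sub] at this
    simp only [alpha] at hN2 ⊢
    linear_combination hN2 + ((2 : ℕ).factorial : ℚ) * this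
  have hE1 : alpha 1 pE = 2 * alpha 1 qO + ((d : ℚ) - 1) * alpha 2 qO := by
    have := hNeq 1 le_rfl
    rw [coeff_sub] at this
    rw [Nat.cast_sub (by omega), Nat.cast_one] at hN1
    simp only [alpha] at hN1 ⊢
    linear_combination hN1 + ((1 : ℕ).factorial : ℚ) * this
  have hOp := isPure_of_isReflexive k (isReflexive_of_vb (H28Pinch.isFinLocFree_of_isInvertible hOO)
    (H11Ample.isCoh_of_isInvertible hOO)) hX
  have hs2 : 0 < alpha 2 qO := alpha_pos_of_pure hL hOp (H11Ample.isCoh_of_isInvertible hOO) hO0 hpO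
  have hF0 : ¬ IsZero F := fun h => by
    rw [H25Euler.hilbPoly_unique hpF (H25Euler.hilbPoly_zero h), alpha_zero] at hα₀
    exact lt_irrefl _ hα₀
  -- it is enough to bound the next coefficient
  suffices hb : alpha 2 pF = alpha 2 qO ∧ alpha 1 pF ≤ alpha 1 qO by
    obtain ⟨h2, h1⟩ := hb
    show alpha 1 pF / alpha 2 pF < alpha 1 pE / alpha 2 pE
    rw [h2, hE2, hE1, div_lt_div_iff₀ hs2 (by positivity)]
    have hd' : (0 : ℚ) < (d : ℚ) - 1 := by
      have : (2 : ℚ) ≤ d := by exact_mod_cast hd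
      linarith
    nlinarith [mul_pos hd' (mul_pos hs2 hs2), mul_le_mul_of_nonneg_right h1 hs2.le]
  have hmain : ∀ {N : X.Modules} (χ : F ⟶ N), Mono χ → PicF.IsInvertible N → ∀ {p : ℚ[X]},
      ShStab.IsHilbPoly k X L N p → alpha 2 pF = alpha 2 p ∧ alpha 1 pF ≤ alpha 1 p := by
    intro N χ hχ hN p hp
    haveI := hχ
    have h := alpha_eq_of_mono_inv hL hX hF hF0 hN χ hpF hp
    exact ⟨h, alpha_pred_le_of_eq hL (by norm_num) (isPure_of_isReflexive k (isReflexive_of_vb
      (H28Pinch.isFinLocFree_of_isInvertible hN) (H11Ample.isCoh_of_isInvertible hN)) hX)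
      (H11Ample.isCoh_of_isInvertible hN) hF χ hpF hp h⟩
  by_cases hg : ι ≫ S.g = 0
  · let χ := hS.exact.lift ι hg
    haveI : Mono χ := mono_of_mono_fac (hS.exact.lift_f ι hg)
    exact hmain (χ ≫ i₁.hom) (mono_comp _ _) hOO hpO
  -- the map to the quotient is injective
  let g : F ⟶ O ((d : ℤ) - 1) := (ι ≫ S.g) ≫ ψ
  have hg0 : g ≠ 0 := fun h => hg (by rwa [← cancel_mono ψ, Limits.zero_comp])
  obtain ⟨pK, hKc, hIc, hpK, hpI⟩ := exists_image_data hL hF (H11Ample.isCoh_of_isInvertible hNi) g hpF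
    (dim_lt_succ_of_pure (isPure_of_mono hEp ι) hF)
  have hI2 : alpha 2 (pF - pK) = alpha 2 qO :=
    (alpha_eq_of_mono_inv hL hX hIc (not_isZero_image hg0) hNi (Abelian.image.ι g) hpI hpN).trans hN2
  have hgz : IsZero (kernel g) := by
    by_contra h0
    have hz : (kernel.ι g ≫ ι) ≫ S.g = 0 := by
      rw [← cancel_mono ψ, Limits.zero_comp]
      simpa only [g, Category.assoc] using kernel.condition g
    let χ := hS.exact.lift _ hz
    haveI : Mono χ := mono_of_mono_fac (hS.exact.lift_f _ hz)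
    have h2 := alpha_eq_of_mono_inv hL hX hKc h0 hOO (χ ≫ i₁.hom) hpK hpO
    rw [hE2] at hα
    simp only [alpha, coeff_sub, mul_sub] at hI2 h2 hα
    linarith
  haveI : Mono g := Preadditive.mono_of_isZero_kernel g hgz
  have hnot := generic_notMem_cokernel (k := k) hX hF hF0 hNi g
  let D : X.Opens := ⟨(CohB1.support (cokernel g))ᶜ,
    (H10Coh.isClosed_support _ (H10Coh.isCoh_cokernel g hF.1 (H11Ample.isCoh_of_isInvertible hNi)).2).isOpen_compl⟩
  have hD : Dense (D : Set X) := D.2.dense ⟨genericPoint X, hnot⟩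
  have hfree : ∀ x ∈ D, H8Props.FunDescent.StalkFree F 1 x := fun x hx => by
    obtain ⟨b⟩ := stalkFree_one hNi x
    refine ⟨b.map (LinearEquiv.ofBijective (RefHull.stalkMapₗ g x) ?_).symm⟩
    let Φ := DerSch.stalkFunctor X x
    haveI : Mono (Φ.map g) := Φ.map_mono g
    haveI : Epi (Φ.map g) := Preadditive.epi_of_isZero_cokernel _
      (((H25Euler.notMem_support_iff _ x).1 hx).of_iso (PreservesCokernel.iso Φ g).symm)
    exact ⟨(ModuleCat.mono_iff_injective (Φ.map g)).1 inferInstance,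
      (ModuleCat.epi_iff_surjective (Φ.map g)).1 inferInstance⟩
  obtain ⟨hM, -⟩ := H29Ref.isInvertible_ddual F hF D hD hfree fun x _ => by
    haveI := H19Grp.isRegularLocalRing_stalk_of_smooth (X ↘ Spec (CommRingCat.of k)) x
    exact H28Alg.ufd_of_regular _
  obtain ⟨e, he⟩ := exists_ext_ddual ι hEr
  haveI : Mono (RefHull.bidualMap F) := mono_of_mono_fac he
  obtain ⟨n, ⟨eM⟩⟩ := hPic _ hM
  have hn : n ≤ 0 := by
    by_contra hn
    push Not at hn
    obtain ⟨a, rfl⟩ : ∃ a : ℕ, n = (a : ℤ) + 1 := ⟨(n - 1).toNat, by omega⟩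
    obtain ⟨s, hs⟩ := hgen a
    obtain ⟨t⟩ := hO.add 1 a
    let u : O 1 ⟶ O ((a : ℤ) + 1) :=
      H22Alg.KosTwist.mulHom (O 1) s ≫ (t ≪≫ eqToIso (congrArg O (add_comm _ _))).hom
    have hu : u ≠ 0 := fun h => by
      have h1 : H22Alg.KosTwist.mulHom (O 1) s = 0 := by
        rw [← cancel_mono (t ≪≫ eqToIso (congrArg O (add_comm _ _))).hom, Limits.zero_comp]; exact h
      obtain ⟨V, e₀, hV, he₀⟩ := H11Ample.exists_gen (hO.inv 1) (genericPoint X)
      have hη := H28Int.Surface.generic_mem_gen (hO.inv a) hs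
      let W := V ⊓ H11Ample.gen (O a) s
      have hgenW := H11Ample.isGen_tm (he₀.res (inf_le_left : W ≤ V))
        ((H11Ample.isGen_gen s).res (inf_le_right : W ≤ H11Ample.gen (O a) s))
      have h2 := congr($(congrArg (fun w => Scheme.Modules.Hom.app w W) h1)
        ((O 1).presheaf.map (homOfLE (inf_le_left : W ≤ V)).op e₀))
      rw [H22Alg.KosTwist.mulHom_app] at h2
      have h3 := (hgenW (genericPoint X) ⟨hV, hη⟩).1 (a₁ := 1) (a₂ := 0) (by
        simp only [H10Coh.mres_mres, h2, one_smul, zero_smul]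
        exact map_zero _)
      exact one_ne_zero h3
    let w : O ((a : ℤ) + 1) ⟶ O ((d : ℤ) - 1) := eM.inv ≫ e ≫ S.g ≫ ψ
    have hw : w ≠ 0 := fun h => hg0 (by
      have : RefHull.bidualMap F ≫ eM.hom ≫ w = g := by
        simp only [w, g, eM.hom_inv_id_assoc, ← Category.assoc, he]
      rw [← this, h, Limits.comp_zero, Limits.comp_zero])
    obtain ⟨hmu, -⟩ := H29RR.mono_of_ne_zero (hO.inv 1) (hO.inv _) hu
    obtain ⟨hmw, -⟩ := H29RR.mono_of_ne_zero (hO.inv _) hNi hw
    haveI := hmu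
    haveI := hmw
    have h0 : u ≫ w = 0 := by
      have := hZ ((u ≫ eM.inv ≫ e ≫ S.g) ≫ i₃.hom)
      have h4 := congrArg (· ≫ φI) this
      simpa only [w, ψ, Category.assoc, Limits.zero_comp] using h4
    exact hu ((cancel_mono w).1 (h0.trans Limits.zero_comp.symm))
  obtain ⟨pM, hpM⟩ := exists_poly (k := k) hL hX (H11Ample.isCoh_of_isInvertible hM)
  obtain ⟨hF2, hF1⟩ := hmain (RefHull.bidualMap F) inferInstance hM hpM
  obtain ⟨a, rfl⟩ : ∃ a : ℕ, n = -(a : ℤ) := ⟨(-n).toNat, by omega⟩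
  obtain ⟨e'⟩ : Nonempty (Coh.structureModule X ≅ CohB1.tensorMod (RefHull.ddual F) (CohB1.tensorPow L a)) := by
    have hla := H28Vert.isInvertible_tensorPow hLi a
    refine (PicGrp.cls_eq_cls_iff hOO (H11Ample.isInvertible_tensor hM hla)).1 ?_
    rw [(PicGrp.cls_eq_one_iff hOO).2 ⟨Iso.refl _⟩, show PicGrp.cls _ (H11Ample.isInvertible_tensor hM hla) =
      PicGrp.cls _ hM * PicGrp.cls _ hla from Subtype.ext (PicGrp.cls_mul_cls_val hM hla).symm,
      cls_eq_of_iso hM (hO.inv _) ⟨eM⟩, cls_family hO, H28Vert.cls_tensorPow hLi, zpow_neg, zpow_natCast, inv_mul_cancel]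
  obtain ⟨c2, c1⟩ := coeff_comp_shift (habove hM hpM) (a : ℚ)
  have hpO' := H25Euler.hilbPoly_unique hpO (hilbPoly_shift (k := k) hLi a e' hpM)
  have hm2 : alpha 2 qO = alpha 2 pM := by simp only [alpha, hpO', c2]
  have hm1 : alpha 1 qO = alpha 1 pM + a * alpha 2 pM := by
    simp only [alpha, hpO', c1, Nat.factorial]; push_cast; ring
  refine ⟨hF2.trans hm2.symm, ?_⟩
  rw [hm1]
  nlinarith [mul_nonneg (Nat.cast_nonneg a : (0 : ℚ) ≤ a) (hm2 ▸ hs2.le : 0 ≤ alpha 2 pM)]

end Groth.Agent.H02CA.SurfStab
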